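import Groth.Agent.AdjLin.K801.Amp
import Groth.Agent.Pi1C.LefFinal

/-!
# The non-vanishing locus of a section of an ample module is affine (cocycle form)
-/

set_option autoImplicit false
universe u
open CategoryTheory CategoryTheory.Limits AlgebraicGeometry TopologicalSpace Opposite
open Groth.Agent.Fdesc.LocGen Groth.Agent.Lefpen.H725.CocDef Groth.Agent.Lefpen.H521.CartierCoc
open K801.Cousin K801.CousinH1

namespace K841.AffLoc

variable {X : Scheme.{u}} [IsIntegral X]

/-- The locus where a section (given as a rational function) of an ample module generates is affine. -/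
theorem exists_affine' {k : Type u} [Field k] (f : X ⟶ Spec (CommRingCat.of k)) [IsProper f] {D : X.Modules}
    (hD : CohB1.IsAmple D) {c : X → X.functionField} (hc : HasCoc D c) {y : X.functionField}
    (hy : ∀ x, RegAt x (y / c x)) : ∃ U : X.Opens, IsAffineOpen U ∧ ∀ x, x ∈ U ↔ UnitAt x (y / c x) := by
  obtain ⟨E⟩ := nonempty_dat hc
  obtain ⟨s, rfl⟩ := K801.Amp.exists_sv E y hy
  exact ⟨CohB1.genLocus D s, Groth.Agent.Pi1C.LefFinal.isAffineOpen_genLocus f hD s,
    fun x => K801.Amp.unitAt_sv_iff E s x⟩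

/-- The form with first powers. -/
theorem exists_affine (k : Type u) [Field k] [X.Over (Spec (CommRingCat.of k))]
    [IsProper (X ↘ Spec (CommRingCat.of k))] {D : X.Modules} (hD : CohB1.IsAmple D) {δ : X → X.functionField}
    (hδ : HasCoc D δ) {y : X.functionField} (hy : ∀ x, RegAt x (y / δ x ^ (1 : ℤ))) :
    ∃ U : X.Opens, IsAffineOpen U ∧ ∀ x, x ∈ U ↔ UnitAt x (y / δ x ^ (1 : ℤ)) := by
  simp only [zpow_one] at hy ⊢
  exact exists_affine' (X ↘ Spec (CommRingCat.of k)) hD hδ hy

end K841.AffLoc
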